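import Mathlib

set_option autoImplicit false
set_option backward.isDefEq.respectTransparency.types false
set_option synthInstance.maxHeartbeats 400000
set_option maxHeartbeats 4000000
set_option linter.style.haveILetI false
set_option linter.unusedSectionVars false
set_option linter.unusedVariables false
set_option linter.unusedSimpArgs false
set_option linter.unnecessarySimpa false

/-! helper2: maps from a finite type algebra into a filtered colimit of rings with injective
transition maps factor through a finite stage. -/

open CategoryTheory Limits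

universe vJ uJ u

namespace Groth.Agent.Helper2.LimHom

variable {J : Type uJ} [Category.{vJ} J] [IsFiltered J]
variable (R : CommRingCat.{u}) (F : J ⥤ CommRingCat.{u}) (α : (Functor.const _).obj R ⟶ F)
variable {S : CommRingCat.{u}} (f : R ⟶ S) (c : Cocone F) (hc : IsColimit c)
variable [PreservesColimit F (forget CommRingCat)]

include hc in
theorem ι_injective (hinj : ∀ {i j : J} (u : i ⟶ j), Function.Injective (F.map u).hom) (i : J) :
    Function.Injective (c.ι.app i).hom := by
  have hc' := isColimitOfPreserves (forget _) hc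
  rw [injective_iff_map_eq_zero]
  intro x hx
  have h1 := (Types.FilteredColimit.isColimit_eq_iff _ hc' (xi := x) (j := i)
    (xj := (0 : F.obj i))).mp (by
      change (c.ι.app i).hom x = (c.ι.app i).hom 0
      rw [hx, map_zero])
  obtain ⟨k, u, v, e⟩ := h1
  have e' : (F.map u).hom x = (F.map v).hom 0 := e
  rw [map_zero] at e'
  exact hinj u (by rw [e', map_zero])

include hc in
theorem exists_eq_comp_ι_app_of_finiteType (hf : f.hom.FiniteType)
    (hinj : ∀ {i j : J} (u : i ⟶ j), Function.Injective (F.map u).hom)
    (g : S ⟶ c.pt) (hg : ∀ i, f ≫ g = α.app i ≫ c.ι.app i) :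
    ∃ (i : J) (g' : S ⟶ F.obj i), f ≫ g' = α.app i ∧ g = g' ≫ c.ι.app i := by
  classical
  let := f.hom.toAlgebra
  obtain ⟨n, π0, hπ0⟩ := Algebra.FiniteType.iff_quotient_mvPolynomial''.mp hf
  let P := CommRingCat.of (MvPolynomial (Fin n) R)
  let iP : R ⟶ P := CommRingCat.ofHom MvPolynomial.C
  let π : P ⟶ S := CommRingCat.ofHom π0.toRingHom
  have hiP : iP ≫ π = f := by ext1; exact π0.comp_algebraMap
  have hPfp : iP.hom.FinitePresentation := by
    change (MvPolynomial.C : R →+* MvPolynomial (Fin n) R).FinitePresentation
    rw [← MvPolynomial.algebraMap_eq, RingHom.finitePresentation_algebraMap]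
    infer_instance
  obtain ⟨i, g', hg', hg''⟩ := RingHom.EssFiniteType.exists_eq_comp_ι_app_of_isColimit R F α iP c hc
    hPfp (π ≫ g) (fun i => by rw [← Category.assoc, hiP, hg i])
  have hker : RingHom.ker π.hom ≤ RingHom.ker g'.hom := by
    intro r hr
    rw [RingHom.mem_ker] at hr ⊢
    apply ι_injective F c hc hinj i
    have h2 := congr($(hg'').hom r)
    simp only [CommRingCat.hom_comp, RingHom.comp_apply] at h2
    rw [map_zero, ← h2, hr, map_zero]
  let g2 : S →+* F.obj i := RingHom.liftOfSurjective π.hom hπ0 ⟨g'.hom, hker⟩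
  have hg2 : g2.comp π.hom = g'.hom := RingHom.liftOfRightInverse_comp _ _ _ _
  have hπg2 : π ≫ CommRingCat.ofHom g2 = g' := by
    ext1
    exact hg2
  have hepi : Epi π := ConcreteCategory.epi_of_surjective π hπ0
  refine ⟨i, CommRingCat.ofHom g2, ?_, ?_⟩
  · rw [← hiP, Category.assoc, hπg2, hg']
  · rw [← cancel_epi π, hg'', ← Category.assoc, hπg2]

end Groth.Agent.Helper2.LimHom
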