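import Mathlib
import Groth.Agent.Lib.Helper2.LimHom.Ring

set_option autoImplicit false
set_option backward.isDefEq.respectTransparency.types false
set_option synthInstance.maxHeartbeats 400000
set_option maxHeartbeats 4000000
set_option linter.style.haveILetI false
set_option linter.unusedSectionVars false
set_option linter.unusedVariables false
set_option linter.unusedSimpArgs false
set_option linter.unnecessarySimpa false

/-! helper2: affine case of "morphisms from a cofiltered limit to a finite type scheme descend when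
the transition maps are injective on functions". -/

open CategoryTheory Limits AlgebraicGeometry

universe u

namespace Groth.Agent.Helper2.LimHom

variable {I : Type u} [Category.{u} I] {S X : Scheme.{u}} (D : I ⥤ Scheme.{u})
  (t : D ⟶ (Functor.const I).obj S) (f : X ⟶ S) (c : Cone D) (hc : IsLimit c)

theorem exists_hom_appTop_eq {Y X : Scheme.{u}} [IsAffine X] (g : Γ(X, ⊤) ⟶ Γ(Y, ⊤)) :
    ∃ gs : Y ⟶ X, gs.appTop = g := by
  refine ⟨Y.toSpecΓ ≫ Spec.map g ≫ X.isoSpec.inv, ?_⟩
  have h : X.isoSpec.inv.appTop ≫ X.isoSpec.hom.appTop = 𝟙 _ := by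
    rw [← Scheme.Hom.comp_appTop, Iso.hom_inv_id]
    rfl
  have h2 : X.isoSpec.hom.appTop = (Scheme.ΓSpecIso Γ(X, ⊤)).hom := by
    rw [Scheme.isoSpec_hom, Scheme.toSpecΓ_appTop]
  rw [h2] at h
  simp only [Scheme.Hom.comp_appTop, Scheme.toSpecΓ_appTop, Category.assoc]
  rw [Scheme.ΓSpecIso_naturality, reassoc_of% h]

include hc in
theorem exists_π_app_comp_eq_of_isAffine
    [IsCofiltered I] [LocallyOfFiniteType f]
    [IsAffine S] [IsAffine X] [∀ i, IsAffine (D.obj i)]
    (hinj : ∀ {i j : I} (u : i ⟶ j), Function.Injective (D.map u).appTop.hom)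
    (a : c.pt ⟶ X) (ha : c.π ≫ t = (Functor.const _).map (a ≫ f)) :
    ∃ (i : I) (g : D.obj i ⟶ X), c.π.app i ≫ g = a ∧ g ≫ f = t.app i := by
  have hAff : ∀ {i j : I} (u : i ⟶ j), IsAffineHom (D.map u) := fun u => inferInstance
  obtain ⟨hcol⟩ := nonempty_isColimit_Γ_mapCocone D c hc
  let α : (Functor.const Iᵒᵖ).obj Γ(S, ⊤) ⟶ D.op ⋙ Scheme.Γ :=
    { app := fun i => (t.app i.unop).appTop
      naturality := by
        intro i j u
        have h := t.naturality u.unop
        simp only [Functor.const_obj_obj, Functor.const_obj_map, Category.comp_id] at h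
        simp only [Functor.const_obj_obj, Functor.const_obj_map, Category.id_comp,
          Functor.comp_obj, Functor.op_obj, Functor.comp_map, Functor.op_map]
        rw [← h]
        exact (Scheme.Hom.comp_appTop _ _).symm }
  have hfin : f.appTop.hom.FiniteType :=
    (HasRingHomProperty.iff_of_isAffine (P := @LocallyOfFiniteType)).mp inferInstance
  have hca : ∀ i : I, c.π.app i ≫ t.app i = a ≫ f := fun i => congr(($ha).app i)
  obtain ⟨i, g', hg1, hg2⟩ := exists_eq_comp_ι_app_of_finiteType Γ(S, ⊤) (D.op ⋙ Scheme.Γ) α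
    f.appTop (Scheme.Γ.mapCocone c.op) hcol hfin (fun u => hinj u.unop) a.appTop (fun i => by
      change f.appTop ≫ a.appTop = (t.app i.unop).appTop ≫ (c.π.app i.unop).appTop
      rw [← Scheme.Hom.comp_appTop, ← Scheme.Hom.comp_appTop, hca])
  obtain ⟨gs, hgs⟩ := exists_hom_appTop_eq (Y := D.obj i.unop) (X := X) g'
  refine ⟨i.unop, gs, ?_, ?_⟩
  · apply ext_of_isAffine
    rw [Scheme.Hom.comp_appTop, hgs]
    exact hg2.symm
  · apply ext_of_isAffine
    rw [Scheme.Hom.comp_appTop, hgs]
    exact hg1

end Groth.Agent.Helper2.LimHom
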