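import Mathlib
import Groth.Agent.Lib.Helper2.LimHom.Main

set_option autoImplicit false
set_option backward.isDefEq.respectTransparency.types false
set_option synthInstance.maxHeartbeats 400000
set_option maxHeartbeats 4000000
set_option maxSynthPendingDepth 3
set_option linter.style.haveILetI false
set_option linter.unusedSectionVars false
set_option linter.unusedVariables false
set_option linter.unusedSimpArgs false
set_option linter.unnecessarySimpa false

/-! helper2: `colim Hom_S(X_i, Y) = Hom_S(lim X_i, Y)` for `Y` locally of finite type over `S`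
and scheme-theoretically dominant affine transition maps (S18742). -/

open CategoryTheory Limits AlgebraicGeometry

universe u

namespace Groth.Agent.Helper2.LimHom

set_option backward.defeqAttrib.useBackward true in
set_option backward.isDefEq.respectTransparency false in
theorem exists_factor_over {S : Scheme.{u}} {I : Type u} [SmallCategory I] [IsCofiltered I]
    (D : I ⥤ Over S) (c : Cone D) (hc : IsLimit c)
    [∀ (i j : I) (t : i ⟶ j), IsAffineHom (D.map t).left]
    [∀ (i j : I) (t : i ⟶ j), IsSchemeTheoreticallyDominant (D.map t).left]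
    [∀ i, CompactSpace (D.obj i).left] [∀ i, QuasiSeparatedSpace (D.obj i).left]
    (Y : Over S) [LocallyOfFiniteType Y.hom] (φ : c.pt ⟶ Y) :
    ∃ (i : I) (φi : D.obj i ⟶ Y), c.π.app i ≫ φi = φ := by
  have (i : I) : CompactSpace ((D ⋙ Over.forget S).obj i) := by dsimp; infer_instance
  have (i : I) : QuasiSeparatedSpace ((D ⋙ Over.forget S).obj i) := by dsimp; infer_instance
  have {i j : I} (f : i ⟶ j) : IsAffineHom ((D ⋙ Over.forget S).map f) := by
    dsimp; infer_instance
  have {i j : I} (f : i ⟶ j) : IsSchemeTheoreticallyDominant ((D ⋙ Over.forget S).map f) := by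
    dsimp; infer_instance
  obtain ⟨k, u, h, h'⟩ := exists_π_app_comp_eq_of_locallyOfFiniteType
    (D ⋙ Over.forget _) (.mk (fun _ ↦ (D.obj _).hom)) Y.hom _ (isLimitOfPreserves _ hc)
    φ.left (by ext; simp)
  refine ⟨k, Over.homMk u h', ?_⟩
  ext
  exact h

set_option backward.defeqAttrib.useBackward true in
set_option backward.isDefEq.respectTransparency false in
theorem exists_eq_over {S : Scheme.{u}} {I : Type u} [SmallCategory I] [IsCofiltered I]
    (D : I ⥤ Over S) (c : Cone D) (hc : IsLimit c)
    [∀ (i j : I) (t : i ⟶ j), IsAffineHom (D.map t).left]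
    [∀ i, CompactSpace (D.obj i).left]
    (Y : Over S) [LocallyOfFiniteType Y.hom] (i : I) (φ ψ : D.obj i ⟶ Y)
    (hφψ : c.π.app i ≫ φ = c.π.app i ≫ ψ) :
    ∃ (j : I) (t : j ⟶ i), D.map t ≫ φ = D.map t ≫ ψ := by
  have (i : I) : CompactSpace ((D ⋙ Over.forget S).obj i) := by dsimp; infer_instance
  have {i j : I} (f : i ⟶ j) : IsAffineHom ((D ⋙ Over.forget S).map f) := by
    dsimp; infer_instance
  obtain ⟨k, hik, heq⟩ := Scheme.exists_hom_comp_eq_comp_of_locallyOfFiniteType
    (D ⋙ Over.forget _) (.mk (fun _ ↦ (D.obj _).hom)) Y.hom _ (isLimitOfPreserves _ hc)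
    φ.left ψ.left (Over.w φ).symm (Over.w ψ).symm congr($(hφψ).left)
  refine ⟨k, hik, ?_⟩
  ext
  exact heq

end Groth.Agent.Helper2.LimHom
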