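import Mathlib

set_option autoImplicit false
set_option backward.isDefEq.respectTransparency.types false
set_option synthInstance.maxHeartbeats 400000
set_option maxHeartbeats 4000000
set_option linter.style.haveILetI false
set_option linter.unusedSectionVars false
set_option linter.unusedVariables false
set_option linter.unusedSimpArgs false
set_option linter.unnecessarySimpa false

/-! helper2: a retract of a finitely presented algebra is finitely presented; a retract (over the
base) of a scheme locally of finite presentation is locally of finite presentation. -/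

open CategoryTheory Limits AlgebraicGeometry TopologicalSpace

universe u

namespace Groth.Agent.Helper2.LimHom

theorem finitePresentation_of_retract {R A B : Type u} [CommRing R] [CommRing A] [CommRing B]
    (f : R →+* A) (hf : f.FinitePresentation) (σ : B →+* A) (pp : A →+* B)
    (hps : pp.comp σ = RingHom.id B) (g : R →+* B) (hσg : σ.comp g = f) :
    g.FinitePresentation := by
  have hg : g = pp.comp f := by
    rw [← hσg, ← RingHom.comp_assoc, hps, RingHom.id_comp]
  have hps' : ∀ b, pp (σ b) = b := fun b => congr($hps b)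
  have hsurj : Function.Surjective pp := fun b => ⟨σ b, hps' b⟩
  rw [hg]
  refine RingHom.FinitePresentation.comp (RingHom.FinitePresentation.of_surjective pp hsurj ?_) hf
  algebraize [f]
  have hft : Algebra.FiniteType R A := Algebra.FiniteType.of_finitePresentation
  obtain ⟨s, hs⟩ := hft.out
  let K' : Ideal A := Ideal.span ((fun a => a - σ (pp a)) '' (s : Set A))
  have hK'le : K' ≤ RingHom.ker pp := by
    refine Ideal.span_le.mpr ?_
    rintro _ ⟨a, _, rfl⟩
    simp only [SetLike.mem_coe, RingHom.mem_ker, map_sub, hps' (pp a), sub_self]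
  have hσpf : ∀ r : R, σ (pp (algebraMap R A r)) = algebraMap R A r := by
    intro r
    have h1 : pp (f r) = g r := by rw [hg]; rfl
    have h2 : σ (g r) = f r := congr($hσg r)
    change σ (pp (f r)) = f r
    rw [h1, h2]
  have key : ∀ a : A, a - σ (pp a) ∈ K' := by
    let φ1 : A →ₐ[R] A ⧸ K' := Ideal.Quotient.mkₐ R K'
    let φ2 : A →ₐ[R] A ⧸ K' :=
      { (Ideal.Quotient.mk K').comp (σ.comp pp) with
        commutes' := fun r => by
          change Ideal.Quotient.mk K' (σ (pp (algebraMap R A r))) = _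
          rw [hσpf r]
          rfl }
    have h12 : φ1 = φ2 := by
      refine AlgHom.ext_of_adjoin_eq_top hs (fun a ha => ?_)
      change Ideal.Quotient.mk K' a = Ideal.Quotient.mk K' (σ (pp a))
      rw [Ideal.Quotient.eq]
      exact Ideal.subset_span ⟨a, ha, rfl⟩
    intro a
    have h3 : Ideal.Quotient.mk K' a = Ideal.Quotient.mk K' (σ (pp a)) := congr($h12 a)
    exact Ideal.Quotient.eq.mp h3
  have hker : RingHom.ker pp = K' := by
    refine le_antisymm (fun a ha => ?_) hK'le
    have h4 := key a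
    rw [RingHom.mem_ker.mp ha, map_zero, sub_zero] at h4
    exact h4
  rw [hker]
  classical
  exact ⟨s.image (fun a => a - σ (pp a)), by rw [Finset.coe_image]⟩

theorem id_appLE_self {X : Scheme.{u}} (U : X.Opens) (e : U ≤ (𝟙 X) ⁻¹ᵁ U) :
    (𝟙 X : X ⟶ X).appLE U U e = 𝟙 _ := by
  simp only [Scheme.Hom.appLE, Scheme.Hom.id_app, Category.id_comp]
  exact X.presheaf.map_id (Opposite.op U)

theorem appLE_congr_hom'' {X Y : Scheme.{u}} {a b : X ⟶ Y} (h : a = b) (U : Y.Opens) (V : X.Opens)
    (e : V ≤ a ⁻¹ᵁ U) : a.appLE U V e = b.appLE U V (h ▸ e) := by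
  subst h; rfl

theorem lfp_of_retract {X X' Y : Scheme.{u}} (p : X ⟶ Y) (p' : X' ⟶ Y) (π : X ⟶ X') (φ : X' ⟶ X)
    (hπ : π ≫ p' = p) (hφ : φ ≫ p = p') (hπφ : π ≫ φ = 𝟙 X) [LocallyOfFinitePresentation p'] :
    LocallyOfFinitePresentation p := by
  rw [HasRingHomProperty.iff_exists_appLE (P := @LocallyOfFinitePresentation)
    (RingHom.finitePresentation_stableUnderComposition.stableUnderCompositionWithLocalizationAway
      RingHom.finitePresentation_holdsForLocalizationAway).left]
  intro x
  obtain ⟨V, hV, hxV, -⟩ := Opens.isBasis_iff_nbhd.mp Y.isBasis_affineOpens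
    (show p.base x ∈ (⊤ : Y.Opens) from trivial)
  obtain ⟨W, hW, hxW, hWV⟩ := Opens.isBasis_iff_nbhd.mp X.isBasis_affineOpens
    (show x ∈ p ⁻¹ᵁ V from hxV)
  have hx' : π.base x ∈ φ ⁻¹ᵁ W := by
    change (π ≫ φ).base x ∈ W
    rw [hπφ]
    exact hxW
  obtain ⟨W', hW', hxW', hW'W⟩ := Opens.isBasis_iff_nbhd.mp X'.isBasis_affineOpens hx'
  obtain ⟨b, hbW, hxb⟩ := hW.exists_basicOpen_le ⟨x, (show x ∈ π ⁻¹ᵁ W' from hxW')⟩ hxW
  let a : Γ(X', W') := (φ.appLE W W' hW'W).hom b
  -- the basic open of `a`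
  have ea : X'.basicOpen a = W' ⊓ φ ⁻¹ᵁ X.basicOpen b := by
    change X'.basicOpen ((X'.presheaf.map (homOfLE hW'W).op).hom ((φ.app W).hom b)) = _
    rw [Scheme.basicOpen_res, Scheme.preimage_basicOpen]
  have e1 : X'.basicOpen a ≤ φ ⁻¹ᵁ X.basicOpen b := by rw [ea]; exact inf_le_right
  have e2 : X.basicOpen b ≤ π ⁻¹ᵁ X'.basicOpen a := by
    rw [ea]
    intro z hz
    refine ⟨hbW hz, ?_⟩
    change (π ≫ φ).base z ∈ X.basicOpen b
    rw [hπφ]
    exact hz
  have hbV : X.basicOpen b ≤ p ⁻¹ᵁ V := (X.basicOpen_le b).trans hWV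
  have haV : X'.basicOpen a ≤ p' ⁻¹ᵁ V := by
    intro z hz
    have h1 : φ.base z ∈ X.basicOpen b := e1 hz
    have h2 := hbV h1
    change (φ ≫ p).base z ∈ V at h2
    rw [hφ] at h2
    exact h2
  refine ⟨⟨V, hV⟩, ⟨X.basicOpen b, hW.basicOpen b⟩, hxb, hbV, ?_⟩
  have hfp : (p'.appLE V (X'.basicOpen a) haV).hom.FinitePresentation :=
    HasRingHomProperty.appLE (P := @LocallyOfFinitePresentation) p' inferInstance ⟨V, hV⟩
      ⟨X'.basicOpen a, hW'.basicOpen a⟩ haV
  refine finitePresentation_of_retract _ hfp (φ.appLE (X.basicOpen b) (X'.basicOpen a) e1).hom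
    (π.appLE (X'.basicOpen a) (X.basicOpen b) e2).hom ?_ _ ?_
  · rw [← CommRingCat.hom_comp, Scheme.Hom.appLE_comp_appLE, appLE_congr_hom'' hπφ, id_appLE_self]
    rfl
  · rw [← CommRingCat.hom_comp, Scheme.Hom.appLE_comp_appLE, appLE_congr_hom'' hφ]

end Groth.Agent.Helper2.LimHom
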