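import Mathlib
import Groth.Prelude.Def_W4c6modpairsegaMP
import Groth.Agent.Lib.Helper4.EffCartier
import Groth.Agent.Lib.Helper2.LimHom.OverS
import Groth.Agent.Lib.Helper2.LimHom.Retract

set_option autoImplicit false
set_option backward.isDefEq.respectTransparency.types false
set_option synthInstance.maxHeartbeats 400000
set_option maxHeartbeats 4000000
set_option maxSynthPendingDepth 3
set_option linter.style.haveILetI false
set_option linter.unusedSectionVars false
set_option linter.unusedVariables false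
set_option linter.unusedSimpArgs false
set_option linter.unnecessarySimpa false

/-! helper2: a limit of finitely presented admissible blow-ups which is an admissible blow-up is
locally of finite presentation (S18754). -/

open CategoryTheory Limits AlgebraicGeometry TopologicalSpace

universe u

namespace Groth.Agent.Helper2.LimHom

open Groth.Agent.Helper4.EffCartier

theorem isSchemeTheoreticallyDominant_of_admBlowup {X1 X2 Y : Scheme.{u}} (IY : Y.IdealSheafData)
    (p1 : X1 ⟶ Y) (p2 : X2 ⟶ Y) (g : X1 ⟶ X2) (hg : g ≫ p2 = p1)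
    (hE2 : BlowUp.IsEffCartierIdeal (IY.comap p2))
    (h1 : IsIso (p1 ∣_ ModPair.interior IY)) (h2 : IsIso (p2 ∣_ ModPair.interior IY)) :
    IsSchemeTheoreticallyDominant g := by
  have hU2 : IsSchemeTheoreticallyDominant (p2 ⁻¹ᵁ ModPair.interior IY).ι := by
    refine dominant_of_compl_le hE2 _ (fun x hx => ?_)
    rw [Scheme.IdealSheafData.support_comap] at hx
    exact hx
  have e : p1 ⁻¹ᵁ ModPair.interior IY ≤ g ⁻¹ᵁ (p2 ⁻¹ᵁ ModPair.interior IY) := by
    rw [← Scheme.Hom.comp_preimage, hg]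
  have hg'1 : g.resLE (p2 ⁻¹ᵁ ModPair.interior IY) (p1 ⁻¹ᵁ ModPair.interior IY) e ≫
      (p2 ⁻¹ᵁ ModPair.interior IY).ι = (p1 ⁻¹ᵁ ModPair.interior IY).ι ≫ g :=
    Scheme.Hom.resLE_comp_ι g e
  have hg'2 : g.resLE (p2 ⁻¹ᵁ ModPair.interior IY) (p1 ⁻¹ᵁ ModPair.interior IY) e ≫
      (p2 ∣_ ModPair.interior IY) = p1 ∣_ ModPair.interior IY := by
    rw [← cancel_mono (ModPair.interior IY).ι, Category.assoc, morphismRestrict_ι,
      reassoc_of% hg'1, hg, morphismRestrict_ι]
  have hiso : IsIso (g.resLE (p2 ⁻¹ᵁ ModPair.interior IY) (p1 ⁻¹ᵁ ModPair.interior IY) e) := by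
    have h3 : g.resLE (p2 ⁻¹ᵁ ModPair.interior IY) (p1 ⁻¹ᵁ ModPair.interior IY) e =
        (p1 ∣_ ModPair.interior IY) ≫ inv (p2 ∣_ ModPair.interior IY) := by
      rw [← hg'2, Category.assoc, IsIso.hom_inv_id, Category.comp_id]
    rw [h3]
    infer_instance
  constructor
  have h3 : g.ker ≤ ((p1 ⁻¹ᵁ ModPair.interior IY).ι ≫ g).ker := Scheme.Hom.le_ker_comp _ _
  rw [← hg'1, Scheme.Hom.ker_comp_of_isIso, hU2.ker_eq_bot] at h3
  exact le_bot_iff.mp h3

theorem main18754 {Y : Scheme.{u}}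
    [CompactSpace Y] [QuasiSeparatedSpace Y] (IY : Y.IdealSheafData) (hY : BlowUp.IsEffCartierIdeal IY)
    {I : Type u} [SmallCategory I] [IsCofiltered I] (D : I ⥤ Over Y) (c : Cone D) (hc : IsLimit c)
    [∀ (i j : I) (t : i ⟶ j), IsAffineHom (D.map t).left]
    [∀ i, CompactSpace (D.obj i).left] [∀ i, QuasiSeparatedSpace (D.obj i).left]
    (hI : ∀ i, BlowUp.IsEffCartierIdeal (IY.comap (D.obj i).hom))
    (hadm : ∀ i, ModPair.IsAdmBlowup (IY.comap (D.obj i).hom) IY (D.obj i).hom)
    [∀ i, LocallyOfFinitePresentation (D.obj i).hom]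
    (hX : BlowUp.IsEffCartierIdeal (IY.comap c.pt.hom))
    (hXadm : ModPair.IsAdmBlowup (IY.comap c.pt.hom) IY c.pt.hom) :
    LocallyOfFinitePresentation c.pt.hom := by
  haveI : ∀ (i j : I) (t : i ⟶ j), IsSchemeTheoreticallyDominant (D.map t).left := fun i j t =>
    isSchemeTheoreticallyDominant_of_admBlowup IY (D.obj i).hom (D.obj j).hom (D.map t).left
      (Over.w (D.map t)) (hI j) (hadm i).2.2 (hadm j).2.2
  haveI : IsProper c.pt.hom := hXadm.2.1
  obtain ⟨i, φi, hφi⟩ := exists_factor_over D c hc c.pt (𝟙 c.pt)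
  exact lfp_of_retract c.pt.hom (D.obj i).hom (c.π.app i).left φi.left (Over.w _) (Over.w _)
    (by rw [← Over.comp_left, hφi]; rfl)

end Groth.Agent.Helper2.LimHom
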