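import Mathlib
import Groth.Prelude.Def_W4c6modpairsegaMP
import Groth.Agent.Lib.Helper4.EffCartier
import Groth.Agent.Lib.Helper4.IdealComap
import Groth.Agent.Lib.Helper2.LimHom.Main

set_option autoImplicit false
set_option backward.isDefEq.respectTransparency.types false
set_option synthInstance.maxHeartbeats 400000
set_option maxHeartbeats 4000000
set_option maxSynthPendingDepth 3
set_option linter.style.haveILetI false
set_option linter.unusedSectionVars false
set_option linter.unusedVariables false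
set_option linter.unusedSimpArgs false
set_option linter.unnecessarySimpa false

/-! helper2: sections over preimages of affine opens in a cofiltered limit of schemes with affine
transition maps come from a finite stage; generators of effective Cartier ideals are
nonzerodivisors; the pulled-back modulus on the limit is effective Cartier (S18744). -/

open CategoryTheory Limits AlgebraicGeometry

universe u

namespace Groth.Agent.Helper2.LimHom

open Groth.Agent.Helper4.EffCartier Groth.Agent.Helper4.IdealComap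

section Gen

theorem appLE_congr_hom {X Y : Scheme.{u}} {a b : X ⟶ Y} (h : a = b) (U : Y.Opens) (V : X.Opens)
    (e : V ≤ a ⁻¹ᵁ U) : a.appLE U V e = b.appLE U V (h ▸ e) := by
  subst h; rfl

/-- a generator of an effective Cartier ideal on an affine open is a nonzerodivisor -/
theorem nzd_of_generator {X : Scheme.{u}} {𝓘 : X.IdealSheafData} (h : BlowUp.IsEffCartierIdeal 𝓘)
    (U : X.affineOpens) (g : Γ(X, U.1)) (hg : 𝓘.ideal U = Ideal.span {g}) :
    g ∈ nonZeroDivisors Γ(X, U.1) := by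
  rw [mem_nonZeroDivisors_iff_right]
  intro s hs
  refine X.IsSheaf.section_ext fun y hy ↦ ?_
  obtain ⟨O, hyO, hOU, c, hc, hIc⟩ := shrink h y U.1 hy
  refine ⟨O.1, hOU, hyO, ?_⟩
  rw [map_zero]
  have hmap := 𝓘.map_ideal (U := O) (V := U) hOU
  rw [hg, Ideal.map_span, Set.image_singleton, hIc] at hmap
  have hnzd : (X.presheaf.map (homOfLE hOU).op).hom g ∈ nonZeroDivisors Γ(X, O.1) :=
    nzd_of_mem_span c _ hc (hmap ▸ Ideal.subset_span rfl)
  apply (mem_nonZeroDivisors_iff_right.mp hnzd)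
  change (X.presheaf.map (homOfLE hOU).op).hom s * (X.presheaf.map (homOfLE hOU).op).hom g = 0
  rw [← map_mul, hs, map_zero]

theorem appLE_injective_of_eq {X Y : Scheme.{u}} (f : X ⟶ Y) (O : Y.Opens) (V : X.Opens)
    (e : V ≤ f ⁻¹ᵁ O) (e' : f ⁻¹ᵁ O ≤ V) (z : Γ(Y, O)) (hz : (f.appLE O V e).hom z = 0) :
    (f.app O).hom z = 0 := by
  have h1 : f.appLE O V e ≫ X.presheaf.map (homOfLE e').op = f.app O := by
    rw [Scheme.Hom.appLE_map, ← Scheme.Hom.app_eq_appLE]
  rw [← h1, CommRingCat.hom_comp, RingHom.comp_apply, hz, map_zero]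

end Gen

variable {I : Type u} [Category.{u} I] [IsCofiltered I] (D : I ⥤ Scheme.{u}) (c : Cone D)
  (hc : IsLimit c)

theorem π_le {i j : I} (u : j ⟶ i) (U : (D.obj i).Opens) :
    c.π.app i ⁻¹ᵁ U ≤ c.π.app j ⁻¹ᵁ (D.map u ⁻¹ᵁ U) := by
  rw [← Scheme.Hom.comp_preimage, c.w]

theorem π_ge {i j : I} (u : j ⟶ i) (U : (D.obj i).Opens) :
    c.π.app j ⁻¹ᵁ (D.map u ⁻¹ᵁ U) ≤ c.π.app i ⁻¹ᵁ U := by
  rw [← Scheme.Hom.comp_preimage, c.w]

theorem app_comp_appLE_π {i j : I} (u : j ⟶ i) (U : (D.obj i).Opens) :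
    (D.map u).app U ≫ (c.π.app j).appLE (D.map u ⁻¹ᵁ U) (c.π.app i ⁻¹ᵁ U) (π_le D c u U) =
      (c.π.app i).app U := by
  rw [Scheme.Hom.app_eq_appLE, Scheme.Hom.appLE_comp_appLE, appLE_congr_hom (c.w u),
    ← Scheme.Hom.app_eq_appLE]

theorem app_comp_appLE_π_apply {i j : I} (u : j ⟶ i) (U : (D.obj i).Opens) (a : Γ(D.obj i, U)) :
    ((c.π.app j).appLE (D.map u ⁻¹ᵁ U) (c.π.app i ⁻¹ᵁ U) (π_le D c u U)).hom
      (((D.map u).app U).hom a) = ((c.π.app i).app U).hom a :=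
  congr($(app_comp_appLE_π D c u U).hom a)

variable [∀ {i j} (f : i ⟶ j), IsAffineHom (D.map f)]

include hc in
theorem exists_appLE_π_eq {i : I} (U : (D.obj i).Opens) (hU : IsAffineOpen U)
    (s : Γ(c.pt, c.π.app i ⁻¹ᵁ U)) :
    ∃ (j : I) (u : j ⟶ i) (sj : Γ(D.obj j, D.map u ⁻¹ᵁ U)),
      ((c.π.app j).appLE (D.map u ⁻¹ᵁ U) (c.π.app i ⁻¹ᵁ U) (π_le D c u U)).hom sj = s := by
  have (j : Over i) : IsAffine ((opensDiagram D i U).obj j) := hU.preimage (D.map _)
  obtain ⟨j, t, hj⟩ := exists_appTop_π_eq_of_isAffine_of_isLimit _ _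
    (isLimitOpensCone D c hc i U) ((c.π.app i ⁻¹ᵁ U).topIso.inv.hom s)
  refine ⟨j.left, j.hom, (D.map j.hom ⁻¹ᵁ U).topIso.hom.hom t, ?_⟩
  have h1 : ((opensCone D c i U).π.app j).appTop =
      (D.map j.hom ⁻¹ᵁ U).topIso.hom ≫ (c.π.app j.left).appLE (D.map j.hom ⁻¹ᵁ U)
        (c.π.app i ⁻¹ᵁ U) (π_le D c j.hom U) ≫ (c.π.app i ⁻¹ᵁ U).topIso.inv :=
    Scheme.Hom.resLE_app_top _ _
  rw [h1] at hj
  simp only [CommRingCat.hom_comp, RingHom.comp_apply] at hj
  exact (ConcreteCategory.bijective_of_isIso (c.π.app i ⁻¹ᵁ U).topIso.inv).1 hj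

include hc in
theorem exists_app_eq_zero {j : I} (O : (D.obj j).Opens)
    (hO : IsCompact (O : Set (D.obj j))) (V : c.pt.Opens) (e : V ≤ c.π.app j ⁻¹ᵁ O)
    (e' : c.π.app j ⁻¹ᵁ O ≤ V) (z : Γ(D.obj j, O))
    (hz : ((c.π.app j).appLE O V e).hom z = 0) :
    ∃ (k : I) (w : k ⟶ j), ((D.map w).app O).hom z = 0 :=
  exists_app_map_eq_zero_of_isLimit D c hc hO z (appLE_injective_of_eq _ O V e e' z hz)

end Groth.Agent.Helper2.LimHom
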