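import Mathlib
import Groth.Prelude.Def_W4c6modpairsegaMP
import Groth.Agent.Lib.Helper2.LimHom.Sec

set_option autoImplicit false
set_option backward.isDefEq.respectTransparency.types false
set_option synthInstance.maxHeartbeats 400000
set_option maxHeartbeats 4000000
set_option maxSynthPendingDepth 3
set_option linter.style.haveILetI false
set_option linter.unusedSectionVars false
set_option linter.unusedVariables false
set_option linter.unusedSimpArgs false
set_option linter.unnecessarySimpa false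

/-! helper2: the pulled-back modulus on a cofiltered limit is effective Cartier (S18744). -/

open CategoryTheory Limits AlgebraicGeometry

universe u

namespace Groth.Agent.Helper2.LimHom

open Groth.Agent.Helper4.EffCartier Groth.Agent.Helper4.IdealComap

theorem ideal_comap_span {X Y : Scheme.{u}} (g : X ⟶ Y) (𝓘 : Y.IdealSheafData)
    (U : Y.affineOpens) (f : Γ(Y, U.1)) (hI : 𝓘.ideal U = Ideal.span {f})
    (hV : IsAffineOpen (g ⁻¹ᵁ U.1)) :
    (𝓘.comap g).ideal ⟨g ⁻¹ᵁ U.1, hV⟩ = Ideal.span {(g.app U.1).hom f} := by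
  rw [ideal_comap_eq_map g 𝓘 ⟨g ⁻¹ᵁ U.1, hV⟩ U le_rfl, hI, Ideal.map_span, Set.image_singleton,
    ← Scheme.Hom.app_eq_appLE]

theorem main18744 {I : Type u} [SmallCategory I] [IsCofiltered I] (D : I ⥤ Scheme.{u})
    (c : Cone D) (hc : IsLimit c)
    [∀ (i j : I) (t : i ⟶ j), IsAffineHom (D.map t)]
    (J : ∀ i, (D.obj i).IdealSheafData) (hJ : ∀ i, BlowUp.IsEffCartierIdeal (J i))
    (hmin : ∀ (i j : I) (t : i ⟶ j), ModPair.IsMinimal (J i) (J j) (D.map t)) (i : I) :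
    BlowUp.IsEffCartierIdeal ((J i).comap (c.π.app i)) := by
  have hAff : ∀ {i j : I} (f : i ⟶ j), IsAffineHom (D.map f) := fun f => inferInstance
  have hπaff : IsAffineHom (c.π.app i) := isAffineHom_π_app D c hc i
  intro x
  obtain ⟨U, hxU, f, hf, hI⟩ := hJ i ((c.π.app i).base x)
  refine ⟨⟨c.π.app i ⁻¹ᵁ U.1, U.2.preimage (c.π.app i)⟩, hxU, ((c.π.app i).app U.1).hom f, ?_,
    ideal_comap_span (c.π.app i) (J i) U f hI _⟩
  rw [mem_nonZeroDivisors_iff_right]
  intro s hs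
  obtain ⟨j, u, sj, hsj⟩ := exists_appLE_π_eq D c hc U.1 U.2 s
  have hz : ((c.π.app j).appLE _ _ (π_le D c u U.1)).hom (sj * ((D.map u).app U.1).hom f) = 0 := by
    rw [map_mul, hsj, app_comp_appLE_π_apply]
    exact hs
  have hOj : IsAffineOpen (D.map u ⁻¹ᵁ U.1) := U.2.preimage (D.map u)
  obtain ⟨k, w, hk⟩ := exists_app_eq_zero D c hc (D.map u ⁻¹ᵁ U.1) hOj.isCompact _
    (π_le D c u U.1) (π_ge D c u U.1) _ hz
  rw [map_mul] at hk
  have hJj : (J j).ideal ⟨D.map u ⁻¹ᵁ U.1, hOj⟩ = Ideal.span {((D.map u).app U.1).hom f} := by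
    have := hmin j i u
    unfold ModPair.IsMinimal at this
    rw [this]
    exact ideal_comap_span (D.map u) (J i) U f hI hOj
  have hOk : IsAffineOpen (D.map w ⁻¹ᵁ (D.map u ⁻¹ᵁ U.1)) := hOj.preimage (D.map w)
  have hJk : (J k).ideal ⟨D.map w ⁻¹ᵁ (D.map u ⁻¹ᵁ U.1), hOk⟩ =
      Ideal.span {((D.map w).app (D.map u ⁻¹ᵁ U.1)).hom (((D.map u).app U.1).hom f)} := by
    have := hmin k j w
    unfold ModPair.IsMinimal at this
    rw [this]
    exact ideal_comap_span (D.map w) (J j) ⟨D.map u ⁻¹ᵁ U.1, hOj⟩ _ hJj hOk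
  have hnzd := nzd_of_generator (hJ k) ⟨_, hOk⟩ _ hJk
  have h0 : ((D.map w).app (D.map u ⁻¹ᵁ U.1)).hom sj = 0 :=
    mem_nonZeroDivisors_iff_right.mp hnzd _ hk
  have h1 : ((c.π.app j).app (D.map u ⁻¹ᵁ U.1)).hom sj = 0 := by
    rw [← app_comp_appLE_π_apply D c w (D.map u ⁻¹ᵁ U.1) sj, h0, map_zero]
  rw [← hsj, Scheme.Hom.appLE, CommRingCat.hom_comp, RingHom.comp_apply, h1, map_zero]

end Groth.Agent.Helper2.LimHom
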