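import Mathlib
import Groth.Prelude.Def_W4c6modpairsegaMP
import Groth.Agent.Lib.Helper2.LimHom.Mod
import Groth.Agent.Lib.Helper2.LimHom.OverS

set_option autoImplicit false
set_option backward.isDefEq.respectTransparency.types false
set_option synthInstance.maxHeartbeats 400000
set_option maxHeartbeats 4000000
set_option maxSynthPendingDepth 3
set_option linter.style.haveILetI false
set_option linter.unusedSectionVars false
set_option linter.unusedVariables false
set_option linter.unusedSimpArgs false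
set_option linter.unnecessarySimpa false

/-! helper2: an inequality of locally principal ideal sheaves which holds on a cofiltered limit
holds at a finite stage; descent of ambient morphisms of modulus pairs (S18745). -/

open CategoryTheory Limits AlgebraicGeometry

universe u

namespace Groth.Agent.Helper2.LimHom

open Groth.Agent.Helper4.EffCartier Groth.Agent.Helper4.IdealComap

section Gen

theorem ideal_le_of_le {X : Scheme.{u}} (𝓘 𝓙 : X.IdealSheafData) (O1 O' : X.affineOpens)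
    (h : O'.1 ≤ O1.1) (hle : 𝓘.ideal O1 ≤ 𝓙.ideal O1) : 𝓘.ideal O' ≤ 𝓙.ideal O' := by
  rw [← 𝓘.map_ideal (U := O') (V := O1) h, ← 𝓙.map_ideal (U := O') (V := O1) h]
  exact Ideal.map_mono hle

theorem comap_ideal_mono {X Y : Scheme.{u}} (g : X ⟶ Y) (𝓘 𝓙 : Y.IdealSheafData)
    (O : Y.affineOpens) (O' : X.affineOpens) (h : O'.1 ≤ g ⁻¹ᵁ O.1)
    (hle : 𝓘.ideal O ≤ 𝓙.ideal O) : (𝓘.comap g).ideal O' ≤ (𝓙.comap g).ideal O' := by
  rw [ideal_comap_eq_map g 𝓘 O' O h, ideal_comap_eq_map g 𝓙 O' O h]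
  exact Ideal.map_mono hle

end Gen

variable {I : Type u} [Category.{u} I] [IsCofiltered I] (D : I ⥤ Scheme.{u}) (c : Cone D)
  (hc : IsLimit c) [∀ {i j} (f : i ⟶ j), IsAffineHom (D.map f)]

/-- the inequality `A ≤ B` holds after pull-back along `w`, over the preimage of `O` -/
def P {i0 : I} (A B : (D.obj i0).IdealSheafData) (O : (D.obj i0).Opens) (k : I) (w : k ⟶ i0) :
    Prop :=
  ∀ O' : (D.obj k).affineOpens, O'.1 ≤ D.map w ⁻¹ᵁ O →
    (A.comap (D.map w)).ideal O' ≤ (B.comap (D.map w)).ideal O'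

theorem P_stab {i0 : I} (A B : (D.obj i0).IdealSheafData) (O : (D.obj i0).affineOpens) (k : I)
    (w : k ⟶ i0) (hP : P D A B O.1 k w) {k' : I} (v : k' ⟶ k) : P D A B O.1 k' (v ≫ w) := by
  intro O' hO'
  rw [D.map_comp] at hO' ⊢
  rw [Scheme.IdealSheafData.comap_comp, Scheme.IdealSheafData.comap_comp]
  exact comap_ideal_mono (D.map v) _ _ ⟨D.map w ⁻¹ᵁ O.1, O.2.preimage (D.map w)⟩ O' hO'
    (hP ⟨D.map w ⁻¹ᵁ O.1, O.2.preimage (D.map w)⟩ le_rfl)

include hc in
theorem P_exists {i0 : I} (A B : (D.obj i0).IdealSheafData) (O : (D.obj i0).affineOpens)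
    (f g : Γ(D.obj i0, O.1)) (hA : A.ideal O = Ideal.span {f}) (hB : B.ideal O = Ideal.span {g})
    (hle : A.comap (c.π.app i0) ≤ B.comap (c.π.app i0)) :
    ∃ (k : I) (w : k ⟶ i0), P D A B O.1 k w := by
  have hπaff : IsAffineHom (c.π.app i0) := isAffineHom_π_app D c hc i0
  have hV : IsAffineOpen (c.π.app i0 ⁻¹ᵁ O.1) := O.2.preimage (c.π.app i0)
  have h1 := hle ⟨_, hV⟩
  rw [ideal_comap_span (c.π.app i0) A O f hA hV, ideal_comap_span (c.π.app i0) B O g hB hV,
    Ideal.span_singleton_le_span_singleton] at h1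
  obtain ⟨hinf, hh⟩ := h1
  obtain ⟨j, u, hj, hhj⟩ := exists_appLE_π_eq D c hc O.1 O.2 hinf
  have hz : ((c.π.app j).appLE _ _ (π_le D c u O.1)).hom
      (((D.map u).app O.1).hom f - ((D.map u).app O.1).hom g * hj) = 0 := by
    rw [map_sub, map_mul, hhj, app_comp_appLE_π_apply, app_comp_appLE_π_apply, hh, sub_self]
  have hOj : IsAffineOpen (D.map u ⁻¹ᵁ O.1) := O.2.preimage (D.map u)
  obtain ⟨k, w', hk⟩ := exists_app_eq_zero D c hc (D.map u ⁻¹ᵁ O.1) hOj.isCompact _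
    (π_le D c u O.1) (π_ge D c u O.1) _ hz
  rw [map_sub, map_mul, sub_eq_zero] at hk
  refine ⟨k, w' ≫ u, ?_⟩
  intro O' hO'
  rw [D.map_comp] at hO' ⊢
  rw [Scheme.IdealSheafData.comap_comp, Scheme.IdealSheafData.comap_comp]
  have hOk : IsAffineOpen (D.map w' ⁻¹ᵁ (D.map u ⁻¹ᵁ O.1)) := hOj.preimage (D.map w')
  refine ideal_le_of_le _ _ ⟨_, hOk⟩ O' hO' ?_
  rw [ideal_comap_span (D.map w') (A.comap (D.map u)) ⟨_, hOj⟩ _
      (ideal_comap_span (D.map u) A O f hA hOj) hOk,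
    ideal_comap_span (D.map w') (B.comap (D.map u)) ⟨_, hOj⟩ _
      (ideal_comap_span (D.map u) B O g hB hOj) hOk,
    Ideal.span_singleton_le_span_singleton]
  exact ⟨_, hk⟩

include hc in
theorem exists_comap_le {i0 : I} [CompactSpace (D.obj i0)] (A B : (D.obj i0).IdealSheafData)
    (hloc : ∀ x : D.obj i0, ∃ O : (D.obj i0).affineOpens, x ∈ O.1 ∧
      ∃ f g : Γ(D.obj i0, O.1), A.ideal O = Ideal.span {f} ∧ B.ideal O = Ideal.span {g})
    (hle : A.comap (c.π.app i0) ≤ B.comap (c.π.app i0)) :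
    ∃ (k : I) (w : k ⟶ i0), A.comap (D.map w) ≤ B.comap (D.map w) := by
  choose O hxO f g hA hB using hloc
  have hP : ∀ x, ∃ (k : I) (w : k ⟶ i0), P D A B (O x).1 k w := fun x =>
    P_exists D c hc A B (O x) (f x) (g x) (hA x) (hB x) hle
  choose kx wx hPx using hP
  obtain ⟨T, hT⟩ := isCompact_univ.elim_finite_subcover (fun x : D.obj i0 => ((O x).1 : Set (D.obj i0)))
    (fun x => (O x).1.isOpen) (fun y _ => Set.mem_iUnion.mpr ⟨y, hxO y⟩)
  obtain ⟨k, w, v, hv⟩ := IsCofiltered.wideCospan (I := ↥T) (fun x => wx x.1)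
  refine ⟨k, w, ?_⟩
  refine Scheme.IdealSheafData.le_of_iSup_eq_top
    (fun x : ↥T => ⟨D.map w ⁻¹ᵁ (O x.1).1, (O x.1).2.preimage (D.map w)⟩) ?_ ?_
  · rw [eq_top_iff]
    intro y _
    obtain ⟨x, hx⟩ := Set.mem_iUnion.mp (hT (Set.mem_univ ((D.map w).base y)))
    obtain ⟨hxT, hyx⟩ := Set.mem_iUnion.mp hx
    exact TopologicalSpace.Opens.mem_iSup.mpr ⟨⟨x, hxT⟩, hyx⟩
  · intro x
    have h1 := P_stab D A B (O x.1) (kx x.1) (wx x.1) (hPx x.1) (v x)
    rw [hv x] at h1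
    exact h1 _ le_rfl

end Groth.Agent.Helper2.LimHom
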