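import Mathlib
import Groth.Prelude.Def_W4c6modpairsegaMP
import Groth.Agent.Lib.Helper2.LimHom.Amb

set_option autoImplicit false
set_option backward.isDefEq.respectTransparency.types false
set_option synthInstance.maxHeartbeats 400000
set_option maxHeartbeats 4000000
set_option maxSynthPendingDepth 3
set_option linter.style.haveILetI false
set_option linter.unusedSectionVars false
set_option linter.unusedVariables false
set_option linter.unusedSimpArgs false
set_option linter.unnecessarySimpa false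

/-! helper2: descent of ambient morphisms of modulus pairs from a cofiltered limit (S18745). -/

open CategoryTheory Limits AlgebraicGeometry

universe u

namespace Groth.Agent.Helper2.LimHom

open Groth.Agent.Helper4.EffCartier Groth.Agent.Helper4.IdealComap

set_option backward.defeqAttrib.useBackward true in
set_option backward.isDefEq.respectTransparency false in
theorem exists_factor_over_lfp {S : Scheme.{u}} {I : Type u} [SmallCategory I] [IsCofiltered I]
    (D : I ⥤ Over S) (c : Cone D) (hc : IsLimit c)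
    [∀ (i j : I) (t : i ⟶ j), IsAffineHom (D.map t).left]
    [∀ i, CompactSpace (D.obj i).left] [∀ i, QuasiSeparatedSpace (D.obj i).left]
    (Y : Over S) [LocallyOfFinitePresentation Y.hom] (φ : c.pt ⟶ Y) :
    ∃ (i : I) (φi : D.obj i ⟶ Y), c.π.app i ≫ φi = φ := by
  have (i : I) : CompactSpace ((D ⋙ Over.forget S).obj i) := by dsimp; infer_instance
  have (i : I) : QuasiSeparatedSpace ((D ⋙ Over.forget S).obj i) := by dsimp; infer_instance
  have {i j : I} (f : i ⟶ j) : IsAffineHom ((D ⋙ Over.forget S).map f) := by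
    dsimp; infer_instance
  obtain ⟨k, u, h, h'⟩ := Scheme.exists_π_app_comp_eq_of_locallyOfFinitePresentation
    (D ⋙ Over.forget _) (.mk (fun _ ↦ (D.obj _).hom)) Y.hom _ (isLimitOfPreserves _ hc)
    φ.left (by ext; simp)
  refine ⟨k, Over.homMk u h', ?_⟩
  ext
  exact h

theorem main18745 {S : Scheme.{u}}
    [CompactSpace S] [QuasiSeparatedSpace S] {I : Type u} [SmallCategory I] [IsCofiltered I]
    (D : I ⥤ Over S) (c : Cone D) (hc : IsLimit c)
    [∀ (i j : I) (t : i ⟶ j), IsAffineHom (D.map t).left]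
    [∀ i, CompactSpace (D.obj i).left] [∀ i, QuasiSeparatedSpace (D.obj i).left]
    (J : ∀ i, (D.obj i).left.IdealSheafData) (hJ : ∀ i, BlowUp.IsEffCartierIdeal (J i))
    (hmin : ∀ (i j : I) (t : i ⟶ j), ModPair.IsMinimal (J i) (J j) (D.map t).left)
    (IX : c.pt.left.IdealSheafData) (hIX : ∀ i, IX = (J i).comap (c.π.app i).left)
    (Y : Over S) [CompactSpace Y.left] [QuasiSeparatedSpace Y.left] [LocallyOfFiniteType Y.hom]
    (IY : Y.left.IdealSheafData) (hY : BlowUp.IsEffCartierIdeal IY)
    (h : (∀ (i j : I) (t : i ⟶ j), IsSchemeTheoreticallyDominant (D.map t).left) ∨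
      LocallyOfFinitePresentation Y.hom)
    (φ : c.pt ⟶ Y) (hφ : ModPair.IsAmbient IX IY φ.left) :
    ∃ (i : I) (φi : D.obj i ⟶ Y), ModPair.IsAmbient (J i) IY φi.left ∧ c.π.app i ≫ φi = φ := by
  obtain ⟨i0, φ0, hφ0⟩ : ∃ (i : I) (φi : D.obj i ⟶ Y), c.π.app i ≫ φi = φ := by
    rcases h with h | h
    · haveI := h
      exact exists_factor_over D c hc Y φ
    · haveI := h
      exact exists_factor_over_lfp D c hc Y φ
  have inst1 : ∀ {i j : I} (f : i ⟶ j), IsAffineHom ((D ⋙ Over.forget S).map f) := fun f => by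
    dsimp; infer_instance
  have inst2 : CompactSpace ((D ⋙ Over.forget S).obj i0) :=
    (inferInstance : ∀ i, CompactSpace (D.obj i).left) i0
  have hloc : ∀ x : (D.obj i0).left, ∃ O : (D.obj i0).left.affineOpens, x ∈ O.1 ∧
      ∃ f g : Γ((D.obj i0).left, O.1), (J i0).ideal O = Ideal.span {f} ∧
        (IY.comap φ0.left).ideal O = Ideal.span {g} := by
    intro x
    obtain ⟨W, hxW, g, hg, hIg⟩ := hY (φ0.left.base x)
    obtain ⟨O, hxO, hOW, f, hf, hIf⟩ := shrink (hJ i0) x (φ0.left ⁻¹ᵁ W.1) hxW
    refine ⟨O, hxO, f, (φ0.left.appLE W.1 O.1 hOW).hom g, hIf, ?_⟩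
    rw [ideal_comap_eq_map φ0.left IY O W hOW, hIg, Ideal.map_span, Set.image_singleton]
  have hle : (J i0).comap (c.π.app i0).left ≤ (IY.comap φ0.left).comap (c.π.app i0).left := by
    rw [← Scheme.IdealSheafData.comap_comp, ← Over.comp_left, hφ0, ← hIX i0]
    exact hφ
  obtain ⟨k, w, hk⟩ := exists_comap_le (D ⋙ Over.forget S) ((Over.forget S).mapCone c)
    (isLimitOfPreserves _ hc) (i0 := i0) (J i0) (IY.comap φ0.left) hloc hle
  refine ⟨k, D.map w ≫ φ0, ?_, ?_⟩
  · unfold ModPair.IsAmbient
    have e1 : J k = (J i0).comap (D.map w).left := hmin k i0 w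
    rw [e1, Over.comp_left, Scheme.IdealSheafData.comap_comp]
    exact hk
  · rw [← Category.assoc, c.w, hφ0]

end Groth.Agent.Helper2.LimHom
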